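import Groth.Agent.S5161
import Groth.Prelude.Def_FEt
import Mathlib.RingTheory.Ideal.KrullsHeightTheorem
import Mathlib.AlgebraicGeometry.Morphisms.Affine

/-!
# Purity from condition (W): the affine local core (EGA IV 21.12)
-/

set_option autoImplicit false
set_option linter.style.haveILetI false
universe u

open CategoryTheory AlgebraicGeometry TopologicalSpace

namespace Groth.Agent.PurW12

/-- An element outside `P` cutting every component off `V(M)` somewhere off `V(M)`. -/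
theorem exists_cut {R : Type u} [CommRing R] [IsNoetherianRing R] (M P P' : Ideal R) [P.IsPrime] [P'.IsPrime]
    (hlt : P < P') (hM : M ≤ P) :
    ∃ h, h ∉ P ∧ ∀ q ∈ minimalPrimes R, ¬ M ≤ q → ∃ p : Ideal R, p.IsPrime ∧ q ≤ p ∧ h ∈ p ∧ ¬ M ≤ p := by
  classical
  have hfin : (minimalPrimes R).Finite := minimalPrimes.finite_of_isNoetherianRing R
  let bad : Set (Ideal R) := insert P (⋃ q ∈ {q ∈ minimalPrimes R | q ≤ P}, (q ⊔ M).minimalPrimes)
  have hbadfin : bad.Finite := ((hfin.subset fun q hq => hq.1).biUnion fun q _ =>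
    (q ⊔ M).finite_minimalPrimes_of_isNoetherianRing R).insert P
  have hbad : ∀ ξ ∈ bad, ξ.IsPrime ∧ ¬ P' ≤ ξ := by
    rintro ξ (rfl | hξ)
    · exact ⟨inferInstance, hlt.not_ge⟩
    · obtain ⟨q, ⟨-, hqP⟩, hξ⟩ := Set.mem_iUnion₂.1 hξ
      refine ⟨hξ.1.1, fun h => ?_⟩
      exact (hlt.trans_le h).not_ge (hξ.2 ⟨inferInstance, sup_le hqP hM⟩ (hlt.le.trans h))
  obtain ⟨h₀, hh₀, hh₀'⟩ : ∃ h₀ ∈ P', ∀ ξ ∈ bad, h₀ ∉ ξ := by
    by_contra hcon
    push Not at hcon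
    obtain ⟨ξ, hξ, hle⟩ := (Ideal.subset_union_prime ⊥ ⊥ (s := hbadfin.toFinset) (f := id)
      (fun i hi _ _ => (hbad i (hbadfin.mem_toFinset.1 hi)).1)).mp (fun a ha => by
        obtain ⟨ξ, hξ, haξ⟩ := hcon a ha
        exact Set.mem_iUnion₂.mpr ⟨ξ, hbadfin.mem_toFinset.2 hξ, haξ⟩)
    exact (hbad ξ (hbadfin.mem_toFinset.1 hξ)).2 hle
  let E := hfin.toFinset.filter fun q => ¬ q ≤ P
  have hE : ∀ q ∈ E, ∃ a ∈ q, a ∉ P := fun q hq => SetLike.not_le_iff_exists.1 (Finset.mem_filter.1 hq).2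
  choose! a haq haP using hE
  refine ⟨h₀ * ∏ q ∈ E, a q, fun hmem => ?_, fun q hq hMq => ?_⟩
  · rcases (‹P.IsPrime›.mem_or_mem hmem) with h | h
    · exact hh₀' P (Set.mem_insert _ _) h
    · obtain ⟨r, hr, hrP⟩ := (‹P.IsPrime›.prod_mem_iff).1 h
      exact haP r hr hrP
  by_cases hqP : q ≤ P
  swap
  · have hqE : q ∈ E := Finset.mem_filter.2 ⟨hfin.mem_toFinset.2 hq, hqP⟩
    exact ⟨q, Ideal.IsMinimalPrime.isPrime hq, le_rfl,
      Ideal.mul_mem_left _ _ (Ideal.mem_of_dvd _ (Finset.dvd_prod_of_mem a hqE) (haq q hqE)), hMq⟩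
  haveI : q.IsPrime := Ideal.IsMinimalPrime.isPrime hq
  obtain ⟨p, hp, -⟩ := Ideal.exists_minimalPrimes_le
    (show q ⊔ Ideal.span {h₀} ≤ P' from sup_le (hqP.trans hlt.le) ((Ideal.span_singleton_le_iff_mem _).2 hh₀))
  haveI : p.IsPrime := hp.1.1
  have hqp : q ≤ p := le_sup_left.trans hp.1.2
  have hhp : h₀ ∈ p := hp.1.2 (Ideal.mem_sup_right (Ideal.mem_span_singleton_self _))
  refine ⟨p, hp.1.1, hqp, Ideal.mul_mem_right _ _ hhp, fun hMp => ?_⟩
  obtain ⟨ξ, hξ, hξp⟩ := Ideal.exists_minimalPrimes_le (sup_le hqp hMp)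
  haveI : ξ.IsPrime := hξ.1.1
  have hξb : h₀ ∉ ξ := hh₀' ξ (Set.mem_insert_of_mem _ (Set.mem_iUnion₂.2 ⟨q, ⟨hq, hqP⟩, hξ⟩))
  have hlt1 : q < ξ := lt_of_le_of_ne (le_sup_left.trans hξ.1.2) fun h => hMq (h ▸ le_sup_right.trans hξ.1.2)
  have hlt2 : ξ < p := lt_of_le_of_ne hξp fun h => hξb (h ▸ hhp)
  let π := Ideal.Quotient.mk q
  have hπ : Function.Surjective π := Ideal.Quotient.mk_surjective
  have hcm : ∀ J : Ideal R, q ≤ J → (J.map π).comap π = J := fun J hJ => by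
    rw [Ideal.comap_map_of_surjective π hπ, ← RingHom.ker_eq_comap_bot, Ideal.mk_ker, sup_eq_left.2 hJ]
  have hprime : ∀ J : Ideal R, J.IsPrime → q ≤ J → (J.map π).IsPrime := fun J hJ hqJ =>
    Ideal.map_isPrime_of_surjective hπ (by rwa [Ideal.mk_ker])
  haveI := hprime ξ inferInstance hlt1.le
  haveI := hprime p inferInstance hqp
  have h1 : (⊥ : Ideal (R ⧸ q)) < ξ.map π := bot_lt_iff_ne_bot.2 fun h => by
    refine hlt1.ne' ?_
    rw [← hcm ξ hlt1.le, h, ← RingHom.ker_eq_comap_bot, Ideal.mk_ker]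
  have h2 : ξ.map π < p.map π := lt_of_le_of_ne (Ideal.map_mono hξp) fun h => hlt2.ne <| by
    rw [← hcm ξ hlt1.le, h, hcm p hqp]
  have hmin : p.map π ∈ (Ideal.span {π h₀}).minimalPrimes := by
    refine ⟨⟨inferInstance, (Ideal.span_singleton_le_iff_mem _).2 (Ideal.mem_map_of_mem _ hhp)⟩, fun J hJ hJle => ?_⟩
    haveI := hJ.1
    have hsup : q ⊔ Ideal.span {h₀} ≤ J.comap π := sup_le
      (le_of_eq_of_le (by rw [← RingHom.ker_eq_comap_bot, Ideal.mk_ker]) (Ideal.comap_mono bot_le))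
      ((Ideal.span_singleton_le_iff_mem _).2 (hJ.2 (Ideal.mem_span_singleton_self _)))
    have hle' : J.comap π ≤ p := by rw [← hcm p hqp]; exact Ideal.comap_mono hJle
    exact Ideal.map_le_iff_le_comap.2 (hp.2 ⟨Ideal.comap_isPrime π J, hsup⟩ hle')
  haveI : (Ideal.span {π h₀}).IsPrincipal := ⟨⟨π h₀, rfl⟩⟩
  haveI : (⊥ : Ideal (R ⧸ q)).IsPrime := Ideal.isPrime_bot
  have h3 := Ideal.height_le_one_of_isPrincipal_of_mem_minimalPrimes _ _ hmin
  have h4 := Ideal.height_strict_mono_of_isPrime_of_isPrime h1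
  have h5 := (Ideal.height_strict_mono_of_isPrime_of_isPrime h2).trans_le h3
  exact (Order.lt_one_iff.1 h5 ▸ h4).not_ge bot_le

/-- The core: over a local ring with condition (W). -/
theorem height_le_one {A R : Type u} [CommRing A] [IsLocalRing A] [CommRing R] [IsNoetherianRing R]
    (φ : A →+* R) [IsOpenImmersion (Spec.map (CommRingCat.ofHom φ) ∣_ FEt.puncturedSpec A)]
    (hW : ∀ U : (Spec (CommRingCat.of A)).Opens, ∀ hU : U ≤ FEt.puncturedSpec A,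
        (∀ T ∈ irreducibleComponents ↥(FEt.puncturedSpec A), ¬ Subtype.val '' T ⊆ (U : Set _)) →
        IsAffineHom ((Spec (CommRingCat.of A)).homOfLE hU) → IsAffineOpen U)
    (P P' : PrimeSpectrum R) (hlt : P.asIdeal < P'.asIdeal)
    (hz : (IsLocalRing.maximalIdeal A).map φ ≤ P.asIdeal)
    (hmax : ∀ q : PrimeSpectrum R, (IsLocalRing.maximalIdeal A).map φ ≤ q.asIdeal → q.asIdeal ≤ P.asIdeal → q = P) :
    P.asIdeal.height ≤ 1 := by
  obtain ⟨h, hhP, hcut⟩ := exists_cut _ _ _ hlt hz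
  let f := Spec.map (CommRingCat.ofHom φ)
  let S := FEt.puncturedSpec A
  haveI : IsOpenImmersion (f ∣_ S) := ‹_›
  have hfib : ∀ q : PrimeSpectrum R, f q ∈ S ↔ ¬ (IsLocalRing.maximalIdeal A).map φ ≤ q.asIdeal := fun q => by
    show ¬ (f q = IsLocalRing.closedPoint A) ↔ _
    rw [not_iff_not, Ideal.map_le_iff_le_comap]
    exact ⟨fun h => le_of_eq (congrArg PrimeSpectrum.asIdeal h).symm, fun h => PrimeSpectrum.ext
      ((IsLocalRing.maximalIdeal.isMaximal A).eq_of_le (Ideal.comap_isPrime φ _).ne_top h).symm⟩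
  let D : (Spec (CommRingCat.of R)).Opens := PrimeSpectrum.basicOpen h
  have hD : IsAffineOpen D := IsAffineOpen.Spec_basicOpen (R := CommRingCat.of R) h
  let V : (Spec (CommRingCat.of R)).Opens := D ⊓ f ⁻¹ᵁ S
  let j : (V : Scheme.{u}) ⟶ Spec (CommRingCat.of A) := V.ι ≫ f
  haveI : IsOpenImmersion j := by
    have : j = (Spec (CommRingCat.of R)).homOfLE (inf_le_right : V ≤ f ⁻¹ᵁ S) ≫ (f ∣_ S) ≫ S.ι := by
      rw [morphismRestrict_ι, Scheme.homOfLE_ι_assoc]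
    rw [this]
    infer_instance
  have hmemU : ∀ x, x ∈ j.opensRange ↔ ∃ q, (q ∈ D ∧ f q ∈ S) ∧ f q = x := fun x =>
    ⟨fun ⟨v, hv⟩ => ⟨v.1, v.2, hv⟩, fun ⟨q, hq, hx⟩ => ⟨⟨q, hq⟩, hx⟩⟩
  have hU : j.opensRange ≤ S := fun x hx => by
    obtain ⟨q, hq, rfl⟩ := (hmemU x).1 hx
    exact hq.2
  have hinj : ∀ q q', f q ∈ S → f q' ∈ S → f q = f q' → q = q' := fun q q' hq hq' he =>
    congrArg Subtype.val ((f ∣_ S).isOpenEmbedding.injective (a₁ := ⟨q, hq⟩) (a₂ := ⟨q', hq'⟩) (Subtype.ext (by simpa using he)))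
  have hcomp : ∀ T ∈ irreducibleComponents ↥(FEt.puncturedSpec A), ¬ Subtype.val '' T ⊆ (j.opensRange : Set _) := by
    intro T hT hTU
    haveI : QuasiSober ↥S := S.2.isOpenEmbedding_subtypeVal.quasiSober
    have hTc := isClosed_of_mem_irreducibleComponents T hT
    have ht := hT.1.isGenericPoint_genericPoint hTc
    obtain ⟨q, hq, hqt⟩ := (hmemU _).1 (hTU ⟨_, ht.mem, rfl⟩)
    haveI := q.2
    have hmin : q.asIdeal ∈ minimalPrimes R := ⟨⟨inferInstance, bot_le⟩, fun q' hq' hle => by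
      haveI := hq'.1
      let Q : PrimeSpectrum R := ⟨q', hq'.1⟩
      have hsp : f Q ⤳ f q := ((PrimeSpectrum.le_iff_specializes Q q).1 hle).map f.continuous
      have hQ : f Q ∈ S := hsp.mem_open S.2 hq.2
      have hsp' : (⟨f Q, hQ⟩ : ↥S) ⤳ hT.1.genericPoint := (subtype_specializes_iff _ _).2 (hqt ▸ hsp)
      have hsub : T ⊆ closure {(⟨f Q, hQ⟩ : ↥S)} :=
        ht.def.ge.trans (closure_minimal (Set.singleton_subset_iff.2 hsp'.mem_closure) isClosed_closure)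
      have heq : closure {(⟨f Q, hQ⟩ : ↥S)} = T :=
        le_antisymm (hT.2 isIrreducible_singleton.closure hsub) hsub
      have hback : hT.1.genericPoint ⤳ (⟨f Q, hQ⟩ : ↥S) :=
        ht.specializes (heq.le (subset_closure rfl))
      have := hinj Q q hQ hq.2 ((congrArg Subtype.val (hsp'.antisymm hback).eq).trans hqt.symm)
      exact le_of_eq (congrArg PrimeSpectrum.asIdeal this).symm⟩
    obtain ⟨p, hp, hqp, hhp, hMp⟩ := hcut _ hmin ((hfib q).1 hq.2)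
    let Q : PrimeSpectrum R := ⟨p, hp⟩
    have hQ : f Q ∈ S := (hfib Q).2 hMp
    have hsp : f q ⤳ f Q := ((PrimeSpectrum.le_iff_specializes q Q).1 hqp).map f.continuous
    have hQT : (⟨f Q, hQ⟩ : ↥S) ∈ T := by
      rw [← ht.def]
      exact ((subtype_specializes_iff _ _).2 (hqt ▸ hsp) : hT.1.genericPoint ⤳ _).mem_closure
    obtain ⟨q', hq', he⟩ := (hmemU _).1 (hTU ⟨_, hQT, rfl⟩)
    have := hinj q' Q hq'.2 hQ he
    exact hq'.1 (this ▸ hhp)
  have haff : IsAffineHom ((Spec (CommRingCat.of A)).homOfLE hU) := by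
    constructor
    intro W hW'
    have hW'' : IsAffineOpen (S.ι ''ᵁ W) := hW'.image_of_isOpenImmersion S.ι
    have h1 : IsAffineOpen (D ⊓ f ⁻¹ᵁ (S.ι ''ᵁ W)) := hD.inf (hW''.preimage f)
    have h2 : j ''ᵁ (V.ι ⁻¹ᵁ (D ⊓ f ⁻¹ᵁ (S.ι ''ᵁ W))) =
        j.opensRange.ι ''ᵁ ((Spec (CommRingCat.of A)).homOfLE hU ⁻¹ᵁ W) := by
      ext x
      constructor
      · rintro ⟨v, ⟨-, hv⟩, rfl⟩
        obtain ⟨w, hw, hwv⟩ := hv
        refine ⟨⟨j v, ⟨v, rfl⟩⟩, ?_, rfl⟩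
        show (Spec (CommRingCat.of A)).homOfLE hU ⟨j v, ⟨v, rfl⟩⟩ ∈ W
        have hv' : ((Spec (CommRingCat.of A)).homOfLE hU ⟨j v, ⟨v, rfl⟩⟩ : ↥S) = w :=
          Subtype.ext ((Scheme.homOfLE_apply hU _).trans hwv.symm)
        rw [hv']
        exact hw
      · rintro ⟨⟨_, v, rfl⟩, hv, rfl⟩
        exact ⟨v, ⟨v.2.1, ⟨_, hv, by simp; rfl⟩⟩, rfl⟩
    have h3 : IsAffineOpen (j ''ᵁ (V.ι ⁻¹ᵁ (D ⊓ f ⁻¹ᵁ (S.ι ''ᵁ W)))) :=
      (h1.preimage_of_isOpenImmersion V.ι (by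
        rw [Scheme.Opens.opensRange_ι]
        exact inf_le_inf_left D (f.preimage_mono (Scheme.Opens.ι_image_le _ W)))).image_of_isOpenImmersion j
    rw [h2] at h3
    exact (Scheme.Hom.isAffineOpen_iff_of_isOpenImmersion j.opensRange.ι).1 h3
  have hVaff : IsAffineOpen V := by
    have h1 := (hW _ hU hcomp haff).preimage_of_isOpenImmersion j le_rfl
    rw [Scheme.Hom.preimage_opensRange] at h1
    have h2 := h1.image_of_isOpenImmersion V.ι
    rwa [Scheme.Opens.ι_image_top] at h2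
  refine S5161.result R V hVaff P (fun hP => (hfib P).1 hP.2 hz) fun q hle hq => hmax q ?_ hle
  by_contra hMq
  exact hq ⟨fun hh => hhP (hle hh), (hfib q).2 hMq⟩

end Groth.Agent.PurW12
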