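import Groth.Agent.PurW12.Core
import Groth.Agent.DimIneq.Basic
import Mathlib.Algebra.Category.Ring.Constructions

/-!
# Purity from condition (W): reduction to the local core
-/

set_option autoImplicit false
set_option linter.style.haveILetI false
universe u

open CategoryTheory CategoryTheory.Limits AlgebraicGeometry TopologicalSpace

namespace Groth.Agent.PurW12

/-- Open immersion over an open survives base change. -/
theorem isOpenImmersion_restrict {A' B' C' D' : Scheme.{u}} {l : A' ⟶ B'} {f : A' ⟶ C'} {f₀ : B' ⟶ D'}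
    {s : C' ⟶ D'} (sq : IsPullback l f f₀ s) (Q : D'.Opens) [IsOpenImmersion (f₀ ∣_ Q)] :
    IsOpenImmersion (f ∣_ s ⁻¹ᵁ Q) := by
  have h1 := ((isPullback_morphismRestrict f (s ⁻¹ᵁ Q)).flip).paste_horiz sq
  rw [← morphismRestrict_ι s Q] at h1
  have h2 := (isPullback_morphismRestrict f₀ Q).flip
  let k := h2.lift ((f ⁻¹ᵁ (s ⁻¹ᵁ Q)).ι ≫ l) ((f ∣_ s ⁻¹ᵁ Q) ≫ (s ∣_ Q)) (by rw [h1.w, Category.assoc])
  have hk : k ≫ (f₀ ⁻¹ᵁ Q).ι = (f ⁻¹ᵁ (s ⁻¹ᵁ Q)).ι ≫ l := h2.lift_fst _ _ _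
  have h3 : IsPullback k (f ∣_ s ⁻¹ᵁ Q) (f₀ ∣_ Q) (s ∣_ Q) := by
    refine IsPullback.of_right ?_ (h2.lift_snd _ _ _) h2
    rw [hk]
    exact h1
  exact MorphismProperty.of_isPullback (P := @IsOpenImmersion) h3 ‹_›

/-- Purity at a point maximal in its fibre, from condition (W). -/
theorem ringKrullDim_le_one {X Y : Scheme.{u}} [IsLocallyNoetherian X] (g : X ⟶ Y) {V : Y.Opens}
    (hV : IsAffineOpen V) {W : X.Opens} (hW : IsAffineOpen W) (e : W ≤ g ⁻¹ᵁ V) (y : Y) (hy : y ∈ V)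
    (Q : Y.Opens) (hQ : ∀ t, t ⤳ y → (t ∈ Q ↔ t ≠ y)) [IsOpenImmersion ((W ⊓ g ⁻¹ᵁ Q).ι ≫ g)]
    (hcond : ∀ U : (Spec (Y.presheaf.stalk y)).Opens, ∀ hU : U ≤ FEt.puncturedSpec ↑(Y.presheaf.stalk y),
        (∀ T ∈ irreducibleComponents ↥(FEt.puncturedSpec ↑(Y.presheaf.stalk y)), ¬ Subtype.val '' T ⊆ (U : Set _)) →
        IsAffineHom ((Spec (Y.presheaf.stalk y)).homOfLE hU) → IsAffineOpen U)
    (z z' : X) (hzW : z ∈ W) (hz'W : z' ∈ W) (hz : g z = y) (hz' : g z' = y) (hsp : z ⤳ z') (hne : z' ≠ z)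
    (hmax : ∀ t ∈ W, g t = y → t ⤳ z → t = z) : ringKrullDim (X.presheaf.stalk z) ≤ 1 := by
  haveI : IsNoetherianRing Γ(X, W) := IsLocallyNoetherian.component_noetherian ⟨W, hW⟩
  let A := Γ(Y, V)
  let R₀ := Γ(X, W)
  let O := (Y.presheaf.stalk y : Type u)
  let p := (hV.primeIdealOf ⟨y, hy⟩).asIdeal
  letI : Algebra A O := Y.presheaf.algebra_section_stalk ⟨y, hy⟩
  haveI : IsLocalization.AtPrime O p := hV.isLocalization_stalk ⟨y, hy⟩
  let ψ : A →+* R₀ := (g.appLE V W e).hom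
  let R := Localization (p.primeCompl.map ψ)
  haveI : IsNoetherianRing R := IsLocalization.isNoetherianRing (p.primeCompl.map ψ) R inferInstance
  let φ : O →+* R := IsLocalization.map R ψ (p.primeCompl.le_comap_map)
  have hcomp : φ.comp (algebraMap A O) = (algebraMap R₀ R).comp ψ := IsLocalization.map_comp _
  let f₀ := Spec.map (g.appLE V W e)
  have hf₀ : f₀ ≫ hV.fromSpec = hW.fromSpec ≫ g := IsAffineOpen.SpecMap_appLE_fromSpec g hV hW e
  let s : Spec (CommRingCat.of O) ⟶ Spec A := Spec.map (CommRingCat.ofHom (algebraMap A O))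
  have sq : IsPullback (Spec.map (CommRingCat.ofHom (algebraMap R₀ R))) (Spec.map (CommRingCat.ofHom φ)) f₀ s :=
    isPullback_SpecMap_of_isPushout _ _ _ _ (CommRingCat.isPushout_of_isLocalization ψ φ hcomp p.primeCompl)
  let Q₀ := hV.fromSpec ⁻¹ᵁ Q
  haveI : IsOpenImmersion (f₀ ∣_ Q₀) := by
    have hle : (f₀ ⁻¹ᵁ Q₀) ≤ hW.fromSpec ⁻¹ᵁ (W ⊓ g ⁻¹ᵁ Q) := fun x hx => by
      refine ⟨hW.range_fromSpec.le ⟨x, rfl⟩, ?_⟩
      show g (hW.fromSpec x) ∈ Q
      rw [← Scheme.Hom.comp_apply, ← hf₀]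
      exact hx
    have h1 : (f₀ ⁻¹ᵁ Q₀).ι ≫ f₀ ≫ hV.fromSpec =
        hW.fromSpec.resLE (W ⊓ g ⁻¹ᵁ Q) (f₀ ⁻¹ᵁ Q₀) hle ≫ (W ⊓ g ⁻¹ᵁ Q).ι ≫ g := by
      rw [hf₀, Scheme.Hom.resLE_comp_ι_assoc]
    haveI : IsOpenImmersion (hW.fromSpec.resLE (W ⊓ g ⁻¹ᵁ Q) (f₀ ⁻¹ᵁ Q₀) hle ≫ (W ⊓ g ⁻¹ᵁ Q).ι) := by
      rw [Scheme.Hom.resLE_comp_ι]
      infer_instance
    haveI : IsOpenImmersion (hW.fromSpec.resLE (W ⊓ g ⁻¹ᵁ Q) (f₀ ⁻¹ᵁ Q₀) hle) :=
      IsOpenImmersion.of_comp _ (W ⊓ g ⁻¹ᵁ Q).ι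
    haveI : IsOpenImmersion (((f₀ ∣_ Q₀) ≫ Q₀.ι) ≫ hV.fromSpec) := by
      rw [morphismRestrict_ι, Category.assoc, h1]
      infer_instance
    haveI : IsOpenImmersion ((f₀ ∣_ Q₀) ≫ Q₀.ι) := IsOpenImmersion.of_comp _ hV.fromSpec
    exact IsOpenImmersion.of_comp _ Q₀.ι
  have hfs : ∀ q : PrimeSpectrum O, hV.fromSpec (s q) ⤳ y := fun q => by
    have h1 : (q.asIdeal.comap (algebraMap A O)) ≤ p := by
      rw [← IsLocalization.AtPrime.comap_maximalIdeal O p]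
      exact Ideal.comap_mono (IsLocalRing.le_maximalIdeal q.2.ne_top)
    have := ((PrimeSpectrum.le_iff_specializes (s q) (hV.primeIdealOf ⟨y, hy⟩)).1 h1).map hV.fromSpec.continuous
    rwa [hV.fromSpec_primeIdealOf] at this
  have hpre : s ⁻¹ᵁ Q₀ = FEt.puncturedSpec O := by
    ext q
    show hV.fromSpec (s q) ∈ Q ↔ ¬ q = IsLocalRing.closedPoint O
    rw [hQ _ (hfs q), Ne, not_iff_not]
    have hcl : s (IsLocalRing.closedPoint O) = hV.primeIdealOf ⟨y, hy⟩ :=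
      PrimeSpectrum.ext (IsLocalization.AtPrime.comap_maximalIdeal O p)
    refine ⟨fun h => ?_, fun h => by rw [h, hcl, hV.fromSpec_primeIdealOf]⟩
    refine PrimeSpectrum.localization_comap_injective O p.primeCompl ?_
    refine Eq.trans (hV.fromSpec.isOpenEmbedding.injective ?_) hcl.symm
    exact h.trans (hV.fromSpec_primeIdealOf ⟨y, hy⟩).symm
  haveI : IsOpenImmersion (Spec.map (CommRingCat.ofHom φ) ∣_ FEt.puncturedSpec O) := by
    rw [← hpre]
    exact isOpenImmersion_restrict sq Q₀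
  have hover : ∀ q₀ : PrimeSpectrum R₀, g (hW.fromSpec q₀) = y ↔ q₀.asIdeal.comap ψ = p := fun q₀ => by
    rw [← Scheme.Hom.comp_apply, ← hf₀, Scheme.Hom.comp_apply]
    refine ⟨fun h => ?_, fun h => ?_⟩
    · exact congrArg PrimeSpectrum.asIdeal
        (hV.fromSpec.isOpenEmbedding.injective (h.trans (hV.fromSpec_primeIdealOf ⟨y, hy⟩).symm))
    · rw [show f₀ q₀ = hV.primeIdealOf ⟨y, hy⟩ from PrimeSpectrum.ext h, hV.fromSpec_primeIdealOf]
  let P₀ := hW.primeIdealOf ⟨z, hzW⟩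
  let P₀' := hW.primeIdealOf ⟨z', hz'W⟩
  have hP : P₀.asIdeal.comap ψ = p := (hover P₀).1 (by rw [hW.fromSpec_primeIdealOf]; exact hz)
  have hP' : P₀'.asIdeal.comap ψ = p := (hover P₀').1 (by rw [hW.fromSpec_primeIdealOf]; exact hz')
  have hdis : ∀ q : Ideal R₀, q.comap ψ ≤ p → Disjoint (p.primeCompl.map ψ : Set R₀) q := fun q hq => by
    rw [Set.disjoint_left]
    rintro _ ⟨a, ha, rfl⟩ haq
    exact ha (hq haq)
  haveI := IsLocalization.isPrime_of_isPrime_disjoint (p.primeCompl.map ψ) R _ P₀.2 (hdis _ hP.le)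
  haveI := IsLocalization.isPrime_of_isPrime_disjoint (p.primeCompl.map ψ) R _ P₀'.2 (hdis _ hP'.le)
  let P : PrimeSpectrum R := ⟨P₀.asIdeal.map (algebraMap R₀ R), inferInstance⟩
  let P' : PrimeSpectrum R := ⟨P₀'.asIdeal.map (algebraMap R₀ R), inferInstance⟩
  have hu : P.asIdeal.under R₀ = P₀.asIdeal :=
    IsLocalization.under_map_of_isPrime_disjoint (p.primeCompl.map ψ) R P₀.2 (hdis _ hP.le)
  have hu' : P'.asIdeal.under R₀ = P₀'.asIdeal :=
    IsLocalization.under_map_of_isPrime_disjoint (p.primeCompl.map ψ) R P₀'.2 (hdis _ hP'.le)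
  have hP₀lt : P₀.asIdeal < P₀'.asIdeal := by
    refine lt_of_le_of_ne ((PrimeSpectrum.le_iff_specializes P₀ P₀').2 ?_) fun h => hne ?_
    · refine hW.fromSpec.isOpenEmbedding.isInducing.specializes_iff.1 ?_
      rw [hW.fromSpec_primeIdealOf, hW.fromSpec_primeIdealOf]
      exact hsp
    · have := congrArg hW.fromSpec (PrimeSpectrum.ext h : P₀ = P₀')
      rwa [hW.fromSpec_primeIdealOf, hW.fromSpec_primeIdealOf, eq_comm] at this
  have hmle : ∀ q : PrimeSpectrum R, (IsLocalRing.maximalIdeal O).map φ ≤ q.asIdeal ↔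
      (q.asIdeal.under R₀).comap ψ = p := fun q => by
    have hq : (q.asIdeal.under R₀).comap ψ = (q.asIdeal.comap φ).comap (algebraMap A O) := by
      rw [Ideal.under_def, Ideal.comap_comap, Ideal.comap_comap, hcomp]
    rw [Ideal.map_le_iff_le_comap, hq]
    refine ⟨fun h => ?_, fun h => ?_⟩
    · rw [← (IsLocalRing.maximalIdeal.isMaximal O).eq_of_le (Ideal.comap_isPrime φ _).ne_top h]
      exact IsLocalization.AtPrime.comap_maximalIdeal O p
    · refine (IsLocalization.under_le_under_iff p.primeCompl O).1 ?_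
      exact le_of_eq ((IsLocalization.AtPrime.comap_maximalIdeal O p).trans h.symm)
  have hcore := height_le_one φ hcond P P' ?_ ((hmle P).2 (by rw [hu]; exact hP)) ?_
  · rw [DimIneq.ringKrullDim_stalk_eq_height hW hzW]
    rw [IsLocalization.height_map_of_disjoint (p.primeCompl.map ψ) _ (hdis _ hP.le)] at hcore
    exact_mod_cast hcore
  · refine lt_of_le_of_ne (Ideal.map_mono hP₀lt.le) fun h => hP₀lt.ne ?_
    rw [← hu, ← hu', h]
  · intro q hqm hqP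
    let q₀ : PrimeSpectrum R₀ := ⟨q.asIdeal.under R₀, Ideal.comap_isPrime _ _⟩
    have hle : q₀.asIdeal ≤ P₀.asIdeal := hu ▸ Ideal.comap_mono hqP
    have hspec := ((PrimeSpectrum.le_iff_specializes q₀ P₀).1 hle).map hW.fromSpec.continuous
    rw [hW.fromSpec_primeIdealOf] at hspec
    have heq := hmax _ (hW.range_fromSpec.le ⟨q₀, rfl⟩) ((hover q₀).2 ((hmle q).1 hqm)) hspec
    have : q₀ = P₀ := hW.fromSpec.isOpenEmbedding.injective (heq.trans (hW.fromSpec_primeIdealOf ⟨z, hzW⟩).symm)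
    apply PrimeSpectrum.ext
    rw [← IsLocalization.map_under (p.primeCompl.map ψ) R q.asIdeal, show q.asIdeal.under R₀ = P₀.asIdeal from congrArg PrimeSpectrum.asIdeal this]

end Groth.Agent.PurW12
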